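import Cfsg.Agent.Lib.Parker.Factor

/-!
# A non-split extension of `M₂₃` by its cocode module

`nonempty_cocode_extension`: the quotient of `Parker.Ext` by the functional `x ↦ x(none)`.
Non-splitting: for one relation of length 21 in two elements of `M₂₃` no choice of lifts satisfies
the relation.
-/

set_option autoImplicit false
set_option maxRecDepth 20000

namespace Cfsg.Agent.Parker

open Cfsg Cfsg.Agent.Mathieu Matrix
open scoped Pointwise

/-- Column masks of the generators. -/
def colsG0 : List ℕ := [0x908,0x528,0x20,0x490,0x500,0x8c,0x4a9,0x42a,0x5a0,0x5c8,0x3a8,0x1a0]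

/-- Column masks of the generators. -/
def colsG1 : List ℕ := [0x4a9,0x425,0x161,0x82d,0x4d,0x458,0x624,0x44d,0x44,0x46e,0x441,0x28]

/-- The diagonal data of `theta + theta ∘ M`. -/
def bOf (M : Matrix (Fin 12) (Fin 12) (ZMod 2)) (i k : Fin 12) : ZMod 2 := rMat M k i i

theorem good_g0 : Good (ofCols colsG0) (bOf (ofCols colsG0)) := by
  have h : ∀ k, rMat (ofCols colsG0) k = (rMat (ofCols colsG0) k)ᵀ := by decide +kernel
  exact ⟨fun k i j _ => congrFun (congrFun (h k) i) j, fun k i => rfl, by decide +kernel, by decide +kernel⟩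

theorem good_g1 : Good (ofCols colsG1) (bOf (ofCols colsG1)) := by
  have h : ∀ k, rMat (ofCols colsG1) k = (rMat (ofCols colsG1) k)ᵀ := by decide +kernel
  exact ⟨fun k i j _ => congrFun (congrFun (h k) i) j, fun k i => rfl, by decide +kernel, by decide +kernel⟩

/-- The projection. -/
def proj : Ext →* Spor.M23 := SemidirectProduct.rightHom.comp Ext.subtype

theorem proj_apply (g : Ext) : proj g = (g : Pair).right := rfl

theorem proj_surjective : Function.Surjective proj := by
  have key : ∀ (σ : Spor.M23) (l : ℕ) (cols : List ℕ), Rep ptEnc (σ : Equiv.Perm GolayPt) l →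
      (∀ (i : Fin 12) (j : Fin 24),
        dec (vec (cols.getD i.val 0)) (idx ptEnc (app l j.val)) = basisWord i (ptEnc.symm j)) →
      Good (ofCols cols) (bOf (ofCols cols)) → σ⁻¹ ∈ proj.range := by
    intro σ l cols hσ hc hg
    obtain ⟨q, hq⟩ := exists_lift hg
    refine ⟨⟨⟨Multiplicative.ofAdd q, σ⁻¹⟩, fun x y => ?_⟩, rfl⟩
    show q (x + y) + q x + q y = _
    rw [hq, Subgroup.coe_inv, inv_inv, act_eq_mulVec hσ hc, act_eq_mulVec hσ hc]
  have h := M23_cert.1
  rw [← MonoidHom.range_eq_top, ← Subgroup.map_injective Spor.M23.subtype_injective |>.eq_iff,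
    ← MonoidHom.range_eq_map, Subgroup.range_subtype]
  refine le_antisymm (Subgroup.map_subtype_le _) (h.ge.trans (genGroup_le fun σ l hl hσ => ?_))
  have hσM : σ ∈ Spor.M23 := h.le (Subgroup.subset_closure ⟨l, hl, hσ⟩)
  refine ⟨⟨σ, hσM⟩, inv_mem_iff.1 ?_, rfl⟩
  simp only [gens23, List.mem_cons, List.not_mem_nil, or_false] at hl
  rcases hl with rfl | rfl
  · exact key ⟨σ, hσM⟩ _ colsG0 hσ (by decide +kernel) good_g0
  · exact key ⟨σ, hσM⟩ _ colsG1 hσ (by decide +kernel) good_g1

/-- The functional `x ↦ x(none)`. -/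
def eNone : V → ZMod 2 := fun x => dec x none

theorem eNone_act (σ : Spor.M23) (x : V) :
    eNone (act (σ : Equiv.Perm GolayPt)⁻¹ x) = eNone x := by
  rw [eNone, eNone, dec_act (inv_mem σ.2.1), Function.comp_apply, inv_inv]
  exact congrArg (dec x) σ.2.2

/-- The subgroup of order two killed in the quotient. -/
def Zed : Subgroup Ext where
  carrier := {g | (g : Pair).right = 1 ∧ (qOf (g : Pair) = 0 ∨ qOf (g : Pair) = eNone)}
  one_mem' := ⟨rfl, Or.inl rfl⟩
  mul_mem' {a b} ha hb := by
    refine ⟨by simp [ha.1, hb.1], ?_⟩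
    have e : qOf ((a * b : Ext) : Pair) = qOf (a : Pair) + qOf (b : Pair) := by
      funext x
      rw [Subgroup.coe_mul, qOf_mul, ha.1]
      simp [act_one]
    rw [e]
    rcases ha.2 with h | h <;> rcases hb.2 with h' | h' <;> rw [h, h']
    · simp
    · simp
    · simp
    · exact Or.inl (funext fun x => CharTwo.add_self_eq_zero _)
  inv_mem' {a} ha := by
    refine ⟨by simp [ha.1], ?_⟩
    have e : qOf ((a⁻¹ : Ext) : Pair) = qOf (a : Pair) := by
      funext x
      rw [Subgroup.coe_inv]
      show -qOf (a : Pair) (act (((a : Pair).right⁻¹ : Spor.M23) : Equiv.Perm GolayPt)⁻¹ x) = _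
      rw [ha.1, inv_one, Subgroup.coe_one, inv_one, act_one, ZMod.neg_eq_self_mod_two]
    rw [e]
    exact ha.2

theorem qOf_conj (g n : Pair) (hn : n.right = 1) (x : V) :
    qOf (g * n * g⁻¹) x = qOf n (act ((g.right : Spor.M23) : Equiv.Perm GolayPt)⁻¹ x) := by
  have h1 : qOf (g * g⁻¹) x = 0 := by rw [mul_inv_cancel]; rfl
  rw [qOf_mul] at h1
  rw [qOf_mul, qOf_mul, SemidirectProduct.mul_right, hn, mul_one, add_right_comm, h1, zero_add]

theorem zed_normal : Zed.Normal := by
  refine ⟨fun n hn g => ⟨?_, ?_⟩⟩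
  · simp [hn.1]
  · have e : qOf ((g * n * g⁻¹ : Ext) : Pair) = qOf (n : Pair) := by
      funext x
      rw [Subgroup.coe_mul, Subgroup.coe_mul, Subgroup.coe_inv, qOf_conj _ _ hn.1]
      rcases hn.2 with h | h <;> rw [h]
      · rfl
      · exact eNone_act _ x
    rw [e]
    exact hn.2

attribute [local instance] zed_normal

/-- The extension. -/
abbrev E : Type := Ext ⧸ Zed

/-- Its projection. -/
def projE : E →* Spor.M23 := QuotientGroup.lift Zed proj fun _ hg => hg.1

theorem projE_mk (g : Ext) : projE (QuotientGroup.mk g) = proj g := rfl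

theorem projE_surjective : Function.Surjective projE := fun σ =>
  let ⟨g, hg⟩ := proj_surjective σ; ⟨QuotientGroup.mk g, hg⟩

/-- The functional of a word. -/
def pair : (GolayPt → ZMod 2) →ₗ[ZMod 2] V →ₗ[ZMod 2] ZMod 2 :=
  LinearMap.mk₂ (ZMod 2) (fun w x => ∑ p, w p * dec x p)
    (fun a b x => by simp [add_mul, Finset.sum_add_distrib])
    (fun c a x => by simp only [Pi.smul_apply, smul_eq_mul, Finset.mul_sum, mul_assoc])
    (fun a x y => by simp [mul_add, Finset.sum_add_distrib])
    (fun c a x => by simp only [map_smul, Pi.smul_apply, smul_eq_mul, Finset.mul_sum, mul_left_comm])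

theorem pair_apply (w : GolayPt → ZMod 2) (x : V) : pair w x = ∑ p, w p * dec x p := rfl

/-- The element of the extension given by a word. -/
def wordElt (w : GolayPt → ZMod 2) : Ext :=
  ⟨SemidirectProduct.inl (Multiplicative.ofAdd fun x => pair w x), fun x y => by
    show pair w (x + y) + pair w x + pair w y = theta x y + theta (act (1 : Equiv.Perm GolayPt)⁻¹ x) (act (1 : Equiv.Perm GolayPt)⁻¹ y)
    rw [inv_one, act_one, act_one, map_add, CharTwo.add_self_eq_zero]
    have : ∀ a b : ZMod 2, a + b + a + b = 0 := by decide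
    exact this _ _⟩

/-- The map onto the kernel. -/
def theta' : (GolayPt → ZMod 2) →+ Additive ↥projE.ker :=
  AddMonoidHom.mk' (fun w => Additive.ofMul ⟨QuotientGroup.mk (wordElt w), rfl⟩) fun a b => by
    refine congrArg Additive.ofMul (Subtype.ext ?_)
    show QuotientGroup.mk _ = QuotientGroup.mk (wordElt a * wordElt b)
    refine congrArg _ (Subtype.ext (SemidirectProduct.ext ?_ ?_))
    · refine Multiplicative.toAdd.injective (funext fun x => ?_)
      show pair (a + b) x = qOf (SemidirectProduct.inl _ * SemidirectProduct.inl _ : Pair) x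
      rw [qOf_mul]
      show pair (a + b) x = pair a x + pair b (act (1 : Equiv.Perm GolayPt)⁻¹ x)
      rw [inv_one, act_one, map_add, LinearMap.add_apply]
    · simp [wordElt]

theorem theta'_toMul (w : GolayPt → ZMod 2) :
    (((theta' w).toMul : projE.ker) : E) = QuotientGroup.mk (wordElt w) := rfl

/-- The coordinates of code words that are systematic on the other twelve points. -/
def highCoords : List ℕ := [0x49f,0x93e,0x6e3,0xdc6,0xf13,0xab9,0x1ed,0x3da,0x7b4,0xf68,0xa4f,0xc75]

theorem dec_high : ∀ (j : Fin 12) (i : Fin 24), 12 ≤ i.val →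
    dec (vec (highCoords.getD j.val 0)) (ptEnc.symm i) = if i.val = j.val + 12 then 1 else 0 := by
  decide +kernel

theorem pair_eq_zero {w : GolayPt → ZMod 2} : (∀ x, pair w x = 0) ↔ w ∈ golayCode := by
  constructor
  · intro h
    set w' := w - dec (enc w) with hw'
    have h' : ∀ x, pair w' x = 0 := fun x => by
      rw [hw', map_sub, LinearMap.sub_apply, h, pair_apply,
        golayCode_orth (dec_mem _) (dec_mem x), sub_zero]
    have hlow : ∀ i : Fin 12, w' (sysPt i) = 0 := fun i => by
      show w (sysPt i) - enc.toFun (dec (enc w)) i = 0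
      rw [show enc.toFun (dec (enc w)) = enc w from enc_dec _]
      exact sub_self _
    have hz : w' = 0 := by
      funext p
      obtain ⟨i, rfl⟩ := ptEnc.symm.surjective p
      by_cases hi : i.val < 12
      · exact hlow ⟨i.val, hi⟩
      · have h1 := h' (vec (highCoords.getD (i.val - 12) 0))
        rw [pair_apply, Finset.sum_eq_single (ptEnc.symm i)] at h1
        · have h2 := dec_high ⟨i.val - 12, by omega⟩ i (not_lt.1 hi)
          rw [if_pos (show i.val = i.val - 12 + 12 by omega)] at h2
          rwa [h2, mul_one] at h1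
        · intro p _ hp
          obtain ⟨k, rfl⟩ := ptEnc.symm.surjective p
          by_cases hk : k.val < 12
          · rw [show ptEnc.symm k = sysPt ⟨k.val, hk⟩ from rfl, hlow, zero_mul]
          · have h2 := dec_high ⟨i.val - 12, by omega⟩ k (not_lt.1 hk)
            rw [if_neg (fun he => hp (congrArg ptEnc.symm (Fin.ext (by simp only at he; omega))))] at h2
            rw [h2, mul_zero]
        · simp
    rw [hw', sub_eq_zero] at hz
    exact hz ▸ dec_mem _
  · exact fun h x => golayCode_orth h (dec_mem x)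

theorem theta'_eq_zero_iff (w : GolayPt → ZMod 2) :
    theta' w = 0 ↔ w ∈ golayCode ∨ w + Pi.single none 1 ∈ golayCode := by
  have h0 : theta' w = 0 ↔ wordElt w ∈ Zed := by
    rw [← QuotientGroup.eq_one_iff, ← theta'_toMul]
    exact ⟨fun h => by rw [h]; rfl, fun h => Additive.toMul.injective (Subtype.ext h)⟩
  rw [h0, ← pair_eq_zero, ← pair_eq_zero]
  have hsing : ∀ x, pair (Pi.single none 1) x = eNone x := fun x => by
    rw [pair_apply, Finset.sum_eq_single none]
    · simp [eNone]
    · intro p _ hp; simp [hp]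
    · simp
  constructor
  · rintro ⟨-, h | h⟩
    · exact Or.inl fun x => congrFun h x
    · refine Or.inr fun x => ?_
      rw [map_add, LinearMap.add_apply, hsing, show pair w x = eNone x from congrFun h x]
      exact CharTwo.add_self_eq_zero _
  · rintro (h | h)
    · exact ⟨rfl, Or.inl (funext h)⟩
    · refine ⟨rfl, Or.inr (funext fun x => ?_)⟩
      have h1 := h x
      rw [map_add, LinearMap.add_apply, hsing] at h1
      exact CharTwo.add_eq_zero.1 h1

theorem theta'_surjective : Function.Surjective theta' := by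
  rintro n
  obtain ⟨g, hg⟩ := QuotientGroup.mk_surjective (n.toMul : E)
  have hr : (g : Pair).right = 1 := by
    have h := (n.toMul : projE.ker).2
    rw [MonoidHom.mem_ker, ← hg] at h
    exact h
  have hlin : ∀ x y, qOf (g : Pair) (x + y) = qOf (g : Pair) x + qOf (g : Pair) y := fun x y => by
    have h := g.2 x y
    rw [hr, Subgroup.coe_one, inv_one, act_one, act_one, CharTwo.add_self_eq_zero] at h
    have : ∀ a b c : ZMod 2, a + b + c = 0 → a = b + c := by decide
    exact this _ _ _ h
  let ψ : V →ₗ[ZMod 2] ZMod 2 := (AddMonoidHom.mk' _ hlin).toZModLinearMap 2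
  refine ⟨∑ i, ψ (Pi.single i 1) • Pi.single (sysPt i) 1, ?_⟩
  apply Additive.toMul.injective
  apply Subtype.ext
  rw [theta'_toMul, ← hg]
  refine congrArg _ (Subtype.ext (SemidirectProduct.ext ?_ ?_))
  · refine Multiplicative.toAdd.injective (funext fun x => ?_)
    show pair (∑ i, ψ (Pi.single i 1) • Pi.single (sysPt i) 1) x = ψ x
    conv_rhs => rw [pi_eq_sum_univ' x]
    simp only [map_sum, LinearMap.sum_apply, map_smul, LinearMap.smul_apply, smul_eq_mul]
    refine Finset.sum_congr rfl fun i _ => ?_
    rw [pair_apply, Finset.sum_eq_single (sysPt i)]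
    · rw [Pi.single_eq_same, one_mul, mul_comm]
      exact congrArg (· * _) (congrFun (enc_dec x) i)
    · intro p _ hp; simp [hp]
    · simp
  · rw [hr]; rfl

theorem theta'_equivariant (g : E) (w : GolayPt → ZMod 2) :
    ((theta' (w ∘ ⇑((projE g : Spor.M23) : Equiv.Perm GolayPt)⁻¹)).toMul : E) =
      g * ((theta' w).toMul : E) * g⁻¹ := by
  obtain ⟨g, rfl⟩ := QuotientGroup.mk_surjective g
  rw [theta'_toMul, theta'_toMul, ← QuotientGroup.mk_inv, ← QuotientGroup.mk_mul,
    ← QuotientGroup.mk_mul, projE_mk, proj_apply]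
  refine congrArg _ (Subtype.ext (SemidirectProduct.ext ?_ ?_))
  · refine Multiplicative.toAdd.injective (funext fun x => ?_)
    show pair (w ∘ ⇑((g : Pair).right : Equiv.Perm GolayPt)⁻¹) x =
      qOf ((g : Pair) * (wordElt w : Pair) * (g : Pair)⁻¹) x
    rw [qOf_conj _ _ rfl]
    show _ = pair w (act ((g : Pair).right : Equiv.Perm GolayPt)⁻¹ x)
    rw [pair_apply, pair_apply, dec_act (inv_mem (g : Pair).right.2.1)]
    refine Fintype.sum_equiv ((g : Pair).right : Equiv.Perm GolayPt)⁻¹ _ _ fun p => ?_
    simp [Function.comp_apply]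
  · simp [wordElt]

/-! ### Non-splitting -/

/-- Packed forms of the two elements. -/
def elt : Bool → ℕ
  | false => 0x17020c080d010e00130304110f0716151409100b120a0605
  | true => 0x170d0304140c100015080e0913020711060b010512160a0f

/-- Their column masks. -/
def colsOf : Bool → List ℕ
  | false => [0x2f,0x5d,0x516,0x16,0x911,0x11a,0x20e,0x10a,0x113,0x10d,0x189,0x15]
  | true => [0x301,0x701,0x210,0x208,0x231,0x11a,0x908,0x350,0x19,0x199,0x31d,0x9]

/-- The matrices of the two elements. -/
def matOf (b : Bool) : Matrix (Fin 12) (Fin 12) (ZMod 2) := ofCols (colsOf b)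

/-- The relation with the successive points of the orbit. -/
def steps : List (Bool × ℕ) := [(true, 579), (false, 3217), (true, 2472), (true, 82), (true, 3128), (false, 567), (false, 3170), (true, 725), (false, 2273), (true, 548), (true, 659), (true, 1272), (false, 2150), (false, 1610), (true, 705), (false, 2240), (true, 785), (true, 176), (true, 123), (false, 3115), (false, 226)]

/-- The sum of the coboundary values along a list of steps from given partial sums. -/
def run : List (Bool × ℕ) → ℕ → ℕ → ZMod 2 × ℕ × ℕ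
  | [], c0, c1 => (0, c0, c1)
  | (b, y) :: l, c0, c1 =>
    let c := if b then c1 else c0
    let r := run l (if b then c0 else c0 ^^^ y) (if b then c1 ^^^ y else c1)
    (theta (vec c) (vec y) + theta (matOf b *ᵥ vec c) (matOf b *ᵥ vec y) + r.1, r.2)

theorem sum_eq_run (q : Bool → V → ZMod 2)
    (hq : ∀ b x y, q b (x + y) + q b x + q b y =
      theta x y + theta (matOf b *ᵥ x) (matOf b *ᵥ y))
    : ∀ (l : List (Bool × ℕ)) (c0 c1 : ℕ),
      (l.map fun s => q s.1 (vec s.2)).sum + q false (vec c0) + q true (vec c1) =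
        (run l c0 c1).1 + q false (vec (run l c0 c1).2.1) + q true (vec (run l c0 c1).2.2) := by
  intro l
  induction l with
  | nil => intro c0 c1; simp [run]
  | cons s l ih =>
    obtain ⟨b, y⟩ := s
    intro c0 c1
    cases b
    · have h := ih (c0 ^^^ y) c1
      have h1 := hq false (vec c0) (vec y)
      rw [← vec_xor] at h1
      simp only [run, Bool.false_eq_true, if_false, List.map_cons, List.sum_cons]
      grind
    · have h := ih c0 (c1 ^^^ y)
      have h1 := hq true (vec c1) (vec y)
      rw [← vec_xor] at h1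
      simp only [run, if_true, List.map_cons, List.sum_cons]
      grind

theorem run_steps : run steps 0 0 = (1, 0, 0) := by decide +kernel

/-- The start of the orbit. -/
def start : ℕ := 579

theorem start_none : eNone (vec start) = 0 := by decide +kernel

/-- The list is an orbit. -/
def isOrbit : List (Bool × ℕ) → ℕ → Prop
  | [], _ => True
  | (b, y) :: l, z => y = z ∧ ∃ z' < 4096, matOf b *ᵥ vec y = vec z' ∧ isOrbit l z'

theorem not_split (H : Subgroup E) (hH : H ⊓ projE.ker = ⊥) : H ⊔ projE.ker ≠ ⊤ := by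
  intro htop
  have hmem : ∀ b, ∃ σ : Spor.M23, Rep ptEnc (σ : Equiv.Perm GolayPt) (elt b) := by
    have hok : ∀ b, permOK 24 (elt b) = true ∧ presCode (elt b) = true ∧ app (elt b) 23 = 23 := by
      decide +kernel
    intro b
    obtain ⟨hp, hc, h23⟩ := hok b
    obtain ⟨σ, hσ⟩ := exists_rep (e := ptEnc) hp
    refine ⟨⟨σ, mem_M23_iff.2 ⟨mem_M24_of_rep hσ hc, ?_⟩⟩, hσ⟩
    have h1 := hσ.apply_idx (show 23 < 24 by norm_num)
    rwa [h23, idx_none] at h1
  choose σ hσ using hmem
  have hcols : ∀ b, ∀ (i : Fin 12) (j : Fin 24),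
      dec (vec ((colsOf b).getD i.val 0)) (idx ptEnc (app (elt b) j.val)) =
        basisWord i (ptEnc.symm j) := by
    decide +kernel
  -- lifts in `H`
  have hlift : ∀ b, ∃ g : Ext, QuotientGroup.mk g ∈ H ∧ (g : Pair).right = (σ b)⁻¹ := by
    intro b
    obtain ⟨e, he⟩ := projE_surjective (σ b)⁻¹
    obtain ⟨h, hh, n, hn, rfl⟩ : e ∈ (H : Set E) * (projE.ker : Set E) := by
      rw [← Subgroup.mul_normal, htop]
      trivial
    obtain ⟨g, rfl⟩ := QuotientGroup.mk_surjective h
    refine ⟨g, hh, ?_⟩
    rw [map_mul, MonoidHom.mem_ker.1 hn, mul_one] at he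
    exact he
  choose g hg hgr using hlift
  have hq : ∀ b x y, qOf (g b : Pair) (x + y) + qOf (g b : Pair) x + qOf (g b : Pair) y =
      theta x y + theta (matOf b *ᵥ x) (matOf b *ᵥ y) := by
    intro b x y
    have h := (g b).2 x y
    rwa [hgr, Subgroup.coe_inv, inv_inv, act_eq_mulVec (hσ b) (hcols b),
      act_eq_mulVec (hσ b) (hcols b)] at h
  -- the value of a product of lifts along an orbit
  have hprod : ∀ (l : List (Bool × ℕ)) (z : ℕ), isOrbit l z →
      qOf ((l.map fun s => g s.1).prod : Ext) (vec z) =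
        (l.map fun s => qOf (g s.1 : Pair) (vec s.2)).sum := by
    intro l
    induction l with
    | nil => intro z _; rfl
    | cons s l ih =>
      obtain ⟨b, y⟩ := s
      rintro z ⟨rfl, z', -, hz', hl⟩
      rw [List.map_cons, List.map_cons, List.prod_cons, List.sum_cons, Subgroup.coe_mul, qOf_mul,
        hgr, Subgroup.coe_inv, inv_inv, act_eq_mulVec (hσ b) (hcols b)]
      rw [show ofCols (colsOf b) *ᵥ vec y = vec z' from hz', ih z' hl]
  set P : Ext := (steps.map fun s => g s.1).prod with hP
  have hPH : QuotientGroup.mk P ∈ H := by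
    rw [hP, ← QuotientGroup.mk'_apply, map_list_prod, List.map_map]
    refine Subgroup.list_prod_mem _ fun e he => ?_
    obtain ⟨s, -, rfl⟩ := List.mem_map.1 he
    exact hg s.1
  have hPr : (P : Pair).right = 1 := by
    show SemidirectProduct.rightHom (Ext.subtype P) = 1
    rw [hP, map_list_prod, map_list_prod, List.map_map, List.map_map]
    have e : (List.map ((⇑SemidirectProduct.rightHom ∘ ⇑Ext.subtype) ∘ fun s => g s.1) steps) =
        steps.map fun s => (σ s.1)⁻¹ := List.map_congr_left fun s _ => hgr s.1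
    rw [e]
    apply Subtype.ext
    rw [← Spor.M23.coe_subtype, map_list_prod, List.map_map]
    have hrel : ∀ (l : List Bool) (i : Fin 24),
        ((l.map fun b => ((σ b : Equiv.Perm GolayPt))⁻¹).prod)⁻¹ (ptEnc.symm i) =
          idx ptEnc (l.foldl (fun acc b => app (elt b) acc) i.val) := by
      intro l
      induction l with
      | nil => intro i; simp [idx]
      | cons b l ih =>
        intro i
        rw [List.map_cons, List.prod_cons, _root_.mul_inv_rev, inv_inv, Equiv.Perm.mul_apply,
          List.foldl_cons]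
        have h1 := hσ b (ptEnc.symm i)
        rw [Equiv.apply_symm_apply] at h1
        have h2 := ih (ptEnc (((σ b : Equiv.Perm GolayPt)) (ptEnc.symm i)))
        rw [Equiv.symm_apply_apply, h1] at h2
        exact h2
    have hid : ∀ i : Fin 24,
        idx ptEnc ((steps.map Prod.fst).foldl (fun acc b => app (elt b) acc) i.val) =
          ptEnc.symm i := by decide +kernel
    have h1 : (((steps.map Prod.fst).map fun b => ((σ b : Equiv.Perm GolayPt))⁻¹).prod)⁻¹ = 1 :=
      Equiv.ext fun p => by
        obtain ⟨i, rfl⟩ := ptEnc.symm.surjective p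
        rw [hrel, hid]
        rfl
    rw [inv_eq_one, List.map_map] at h1
    exact h1
  have hker : QuotientGroup.mk P ∈ projE.ker := hPr
  have hone : P ∈ Zed := by
    rw [← QuotientGroup.eq_one_iff]
    exact Subgroup.mem_bot.1 (hH ▸ Subgroup.mem_inf.2 ⟨hPH, hker⟩)
  have horb : isOrbit steps start := ⟨rfl, 3217, by norm_num, by decide +kernel, ⟨rfl, 2472, by norm_num, by decide +kernel, ⟨rfl, 82, by norm_num, by decide +kernel, ⟨rfl, 3128, by norm_num, by decide +kernel, ⟨rfl, 567, by norm_num, by decide +kernel, ⟨rfl, 3170, by norm_num, by decide +kernel, ⟨rfl, 725, by norm_num, by decide +kernel, ⟨rfl, 2273, by norm_num, by decide +kernel, ⟨rfl, 548, by norm_num, by decide +kernel, ⟨rfl, 659, by norm_num, by decide +kernel, ⟨rfl, 1272, by norm_num, by decide +kernel, ⟨rfl, 2150, by norm_num, by decide +kernel, ⟨rfl, 1610, by norm_num, by decide +kernel, ⟨rfl, 705, by norm_num, by decide +kernel, ⟨rfl, 2240, by norm_num, by decide +kernel, ⟨rfl, 785, by norm_num, by decide +kernel, ⟨rfl, 176, by norm_num, by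 decide +kernel, ⟨rfl, 123, by norm_num, by decide +kernel, ⟨rfl, 3115, by norm_num, by decide +kernel, ⟨rfl, 226, by norm_num, by decide +kernel, ⟨rfl, 579, by norm_num, by decide +kernel, trivial⟩⟩⟩⟩⟩⟩⟩⟩⟩⟩⟩⟩⟩⟩⟩⟩⟩⟩⟩⟩⟩
  have h1 := hprod steps start horb
  have h2 := sum_eq_run (fun b => qOf (g b : Pair)) hq steps 0 0
  rw [run_steps, vec_zero] at h2
  have h0 : ∀ b, qOf (g b : Pair) 0 = 0 := fun b => by
    have h := hq b 0 0
    simp only [add_zero, Matrix.mulVec_zero] at h
    have ht : theta 0 0 = 0 := by decide +kernel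
    rw [ht, add_zero] at h
    have : ∀ a : ZMod 2, a + a + a = 0 → a = 0 := by decide
    exact this _ h
  rw [h0, h0, add_zero, add_zero] at h2
  rw [h2, ← hP] at h1
  rcases hone.2 with h | h <;> rw [h] at h1
  · exact zero_ne_one h1
  · rw [start_none] at h1
    exact zero_ne_one h1

/-- **A non-split extension of `M₂₃` by its cocode module exists.** -/
theorem nonempty_cocode_extension :
    ∃ (E : Type) (_ : Group E) (_ : Finite E) (N : Subgroup E) (_ : N.Normal)
      (φ : E ⧸ N ≃* ↥Spor.M23) (θ : (GolayPt → ZMod 2) →+ Additive ↥N),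
      Function.Surjective θ ∧
      (∀ w : GolayPt → ZMod 2, θ w = 0 ↔ (w ∈ golayCode ∨ w + Pi.single none 1 ∈ golayCode)) ∧
      (∀ (g : E) (w : GolayPt → ZMod 2),
        ((θ (w ∘ ⇑(((φ (QuotientGroup.mk g) : ↥Spor.M23) : Equiv.Perm GolayPt)⁻¹))).toMul : E)
          = g * ((θ w).toMul : E) * g⁻¹) ∧
      ∀ H : Subgroup E, H ⊓ N = ⊥ → H ⊔ N ≠ ⊤ := by
  have : Finite Pair := Finite.of_equiv _ SemidirectProduct.equivProd.symm
  refine ⟨E, inferInstance, inferInstance, projE.ker, inferInstance,
    QuotientGroup.quotientKerEquivOfSurjective projE projE_surjective, theta',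
    theta'_surjective, theta'_eq_zero_iff, fun g w => ?_, not_split⟩
  exact theta'_equivariant g w

end Cfsg.Agent.Parker
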