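import Cfsg.Agent.Lib.Mathieu.Groups
import Mathlib.GroupTheory.SemidirectProduct

/-!
# The extension of `M₂₃` by the cocode

Coordinates on the Golay code, the action of `M₂₄` in them, Parker's factor set `theta`, and the
group `Ext` of pairs `(q, σ)` with `q` a function on the code whose coboundary is
`theta + theta ∘ σ⁻¹`.
-/

set_option autoImplicit false
set_option maxRecDepth 20000

namespace Cfsg.Agent.Parker

open Cfsg Cfsg.Agent.Mathieu Matrix

/-- Coordinate space of the code. -/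
abbrev V : Type := Fin 12 → ZMod 2

/-- The vector with the given bit mask. -/
def vec (a : ℕ) : V := fun i => if a.testBit i.val then 1 else 0

theorem vec_xor (a b : ℕ) : vec (a ^^^ b) = vec a + vec b := by
  funext i
  simp only [vec, Nat.testBit_xor, Pi.add_apply]
  cases a.testBit i.val <;> cases b.testBit i.val <;> decide

theorem vec_zero : vec 0 = 0 := by
  funext i
  simp [vec]

/-- The matrix with the given column masks. -/
def ofCols (cols : List ℕ) : Matrix (Fin 12) (Fin 12) (ZMod 2) :=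
  Matrix.of fun i j => vec (cols.getD j.val 0) i

/-- The basis words of the code. -/
def basisWord (i : Fin 12) : GolayPt → ZMod 2 := wordOf (codeBasis.getD i.val 0)

/-- The point of the `i`-th coordinate. -/
def sysPt (i : Fin 12) : GolayPt := ptEnc.symm ⟨i.val, by omega⟩

/-- Coordinates of a word. -/
def enc : (GolayPt → ZMod 2) →ₗ[ZMod 2] V where
  toFun w i := w (sysPt i)
  map_add' _ _ := rfl
  map_smul' _ _ := rfl

/-- The code word with given coordinates. -/
def dec : V →ₗ[ZMod 2] (GolayPt → ZMod 2) where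
  toFun x p := ∑ i, x i * basisWord i p
  map_add' x y := by funext p; simp [add_mul, Finset.sum_add_distrib]
  map_smul' c x := by funext p; simp [Finset.mul_sum, mul_assoc]

theorem dec_apply (x : V) (p : GolayPt) : dec x p = ∑ i, x i * basisWord i p := rfl

theorem basisWord_mem (i : Fin 12) : basisWord i ∈ golayCode := by
  refine wordOf_mem_of_inCode ?_
  revert i
  decide +kernel

theorem dec_mem (x : V) : dec x ∈ golayCode := by
  rw [show dec x = ∑ i, x i • basisWord i by funext p; simp [dec_apply]]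
  exact sum_mem fun i _ => Submodule.smul_mem _ _ (basisWord_mem i)

theorem basisWord_sys (i j : Fin 12) : basisWord i (sysPt j) = if i = j then 1 else 0 := by
  revert i j
  decide +kernel

theorem enc_dec (x : V) : enc (dec x) = x := by
  funext j
  show dec x (sysPt j) = x j
  simp [dec_apply, basisWord_sys]

theorem dec_enc_word : ∀ b ∈ codeBasis, dec (enc (wordOf b)) = wordOf b := by
  have h : ∀ b ∈ codeBasis, ∀ p : GolayPt, dec (enc (wordOf b)) p = wordOf b p := by decide +kernel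
  exact fun b hb => funext (h b hb)

theorem dec_enc {w : GolayPt → ZMod 2} (hw : w ∈ golayCode) : dec (enc w) = w := by
  obtain ⟨m, hm, rfl⟩ := mem_golayCode_iff.1 hw
  rw [inCode, beq_iff_eq] at hm
  rw [← hm]
  have h0 : wordOf 0 = 0 := by funext p; simp [wordOf, hasPt]
  have key : ∀ (bs : List ℕ), (∀ b ∈ bs, dec (enc (wordOf b)) = wordOf b) → ∀ c,
      dec (enc (wordOf (encC bs c))) = wordOf (encC bs c) := by
    intro bs hbs
    induction bs with
    | nil => intro c; rw [encC, h0, map_zero, map_zero]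
    | cons b bs ih =>
      intro c
      rw [encC, wordOf_xor, map_add, map_add, ih (fun x hx => hbs x (List.mem_cons_of_mem _ hx))]
      split
      · rw [hbs b List.mem_cons_self]
      · rw [h0, map_zero, map_zero]
  exact key _ dec_enc_word m

theorem dec_injective : Function.Injective dec := fun x y h => by
  rw [← enc_dec x, h, enc_dec]

theorem perm_mem {σ : Equiv.Perm GolayPt} (hσ : σ ∈ M24) {w : GolayPt → ZMod 2}
    (hw : w ∈ golayCode) : w ∘ ⇑σ⁻¹ ∈ golayCode := by
  obtain ⟨m, hm, rfl⟩ := mem_golayCode_iff.1 hw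
  obtain ⟨m', hm', he⟩ :=
    mem_supports_iff.1 (mem_M24_iff.1 hσ _ (mem_supports_iff.2 ⟨m, hm, rfl⟩))
  refine mem_golayCode_iff.2 ⟨m', hm', funext fun p => ?_⟩
  have h := Finset.ext_iff.1 he p
  rw [mem_ptsOf, ← Finset.inv_smul_mem_iff, mem_ptsOf] at h
  simp only [wordOf, Function.comp_apply, Equiv.Perm.smul_def] at h ⊢
  simp [Bool.eq_iff_iff.2 h]

/-- The action in coordinates. -/
def act (σ : Equiv.Perm GolayPt) : V →ₗ[ZMod 2] V where
  toFun x := enc (dec x ∘ ⇑σ⁻¹)
  map_add' x y := by rw [map_add, ← map_add enc]; rfl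
  map_smul' c x := by rw [map_smul, RingHom.id_apply, ← map_smul enc]; rfl

theorem act_apply (σ : Equiv.Perm GolayPt) (x : V) : act σ x = enc (dec x ∘ ⇑σ⁻¹) := by rfl

theorem dec_act {σ : Equiv.Perm GolayPt} (hσ : σ ∈ M24) (x : V) :
    dec (act σ x) = dec x ∘ ⇑σ⁻¹ := by
  rw [act_apply]
  exact dec_enc (perm_mem hσ (dec_mem x))

theorem act_mul {σ τ : Equiv.Perm GolayPt} (hσ : σ ∈ M24) (hτ : τ ∈ M24) (x : V) :
    act (σ * τ) x = act σ (act τ x) := by
  apply dec_injective
  rw [dec_act (mul_mem hσ hτ), dec_act hσ, dec_act hτ, _root_.mul_inv_rev]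
  rfl

theorem act_one (x : V) : act 1 x = x := by
  apply dec_injective
  rw [dec_act (one_mem _), inv_one]
  rfl

/-- Column certificate for a packed permutation. -/
theorem act_eq_mulVec {σ : Equiv.Perm GolayPt} {l : ℕ} (hl : Rep ptEnc σ l) {cols : List ℕ}
    (h : ∀ (i : Fin 12) (j : Fin 24),
      dec (vec (cols.getD i.val 0)) (idx ptEnc (app l j.val)) = basisWord i (ptEnc.symm j))
    (x : V) : act σ x = ofCols cols *ᵥ x := by
  have hbasis : ∀ i, dec (vec (cols.getD i.val 0)) = basisWord i ∘ ⇑σ⁻¹ := by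
    intro i
    funext p
    obtain ⟨q, rfl⟩ := σ.surjective p
    have h1 := h i (ptEnc q)
    rw [← hl q, idx_self, Equiv.symm_apply_apply] at h1
    simpa using h1
  funext k
  show (dec x ∘ ⇑σ⁻¹) (sysPt k) = _
  rw [Function.comp_apply, dec_apply]
  simp only [mulVec, dotProduct]
  refine Finset.sum_congr rfl fun i _ => ?_
  rw [mul_comm]
  have h2 := congrFun (hbasis i) (sysPt k)
  rw [Function.comp_apply] at h2
  rw [← h2]
  congr 1
  exact congrFun (enc_dec _) k

/-! ### The factor set -/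

/-- Row masks of the quadratic forms. -/
def uRows : List ℕ := [
  0x0, 0x720, 0x348, 0x580, 0xd40, 0x1c0, 0x100, 0x900, 0xe00, 0x800, 0x0, 0x0,
  0x720, 0x0, 0xa28, 0x430, 0x160, 0xfc0, 0x280, 0xc00, 0x800, 0x0, 0x0, 0x0,
  0x348, 0xa28, 0x0, 0x600, 0x660, 0x300, 0xa00, 0xf00, 0x200, 0xc00, 0x0, 0x0,
  0x584, 0x434, 0x600, 0x0, 0x4c0, 0xd00, 0x700, 0xc00, 0x400, 0xc00, 0x800, 0x0,
  0xd40, 0x168, 0x660, 0x4c0, 0x0, 0x840, 0xf80, 0xa00, 0x200, 0x0, 0x0, 0x0,
  0x1c2, 0xfde, 0x310, 0xd00, 0x840, 0x0, 0x400, 0xa00, 0x0, 0x400, 0x0, 0x0,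
  0x134, 0x2b0, 0xa10, 0x710, 0xfb0, 0x400, 0x0, 0x900, 0x0, 0x0, 0x800, 0x0,
  0x928, 0xc60, 0xf00, 0xc10, 0xa40, 0xa00, 0x900, 0x0, 0x800, 0x800, 0x800, 0x0,
  0xeff, 0x830, 0x2a0, 0x460, 0x240, 0x0, 0x80, 0x800, 0x0, 0x400, 0x800, 0x0,
  0x906, 0x64, 0xdfc, 0xc40, 0x1c0, 0x480, 0x0, 0x800, 0x400, 0x0, 0x0, 0x0,
  0x11a, 0xa8, 0x298, 0xbf8, 0x40, 0x240, 0x800, 0x800, 0xa00, 0x0, 0x0, 0x0,
  0x390, 0x1a4, 0x2c0, 0x6a0, 0xe0, 0x80, 0x480, 0x780, 0x400, 0x0, 0x0, 0x0]

/-- The `k`-th quadratic form. -/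
def uMat (k : Fin 12) : Matrix (Fin 12) (Fin 12) (ZMod 2) :=
  Matrix.of fun i j => vec (uRows.getD (12 * k.val + i.val) 0) j

/-- Parker's factor set. -/
def theta (x y : V) : ZMod 2 := ∑ k, y k * (x ⬝ᵥ uMat k *ᵥ x)

/-- The matrix of the `k`-th component of `theta + theta ∘ M`. -/
def rMat (M : Matrix (Fin 12) (Fin 12) (ZMod 2)) (k : Fin 12) :
    Matrix (Fin 12) (Fin 12) (ZMod 2) :=
  uMat k + ∑ l, M l k • (Mᵀ * uMat l * M)

/-- The strictly upper triangular part. -/
def upper (R : Matrix (Fin 12) (Fin 12) (ZMod 2)) : Matrix (Fin 12) (Fin 12) (ZMod 2) :=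
  Matrix.of fun i j => if i < j then R i j else 0

theorem quad_symm (x : V) (A : Matrix (Fin 12) (Fin 12) (ZMod 2)) :
    x ⬝ᵥ (A + Aᵀ) *ᵥ x = 0 := by
  rw [add_mulVec, dotProduct_add, mulVec_transpose, dotProduct_comm x (x ᵥ* A),
    ← dotProduct_mulVec]
  exact CharTwo.add_self_eq_zero _

theorem quad_diag {R : Matrix (Fin 12) (Fin 12) (ZMod 2)} (hR : ∀ i j, i ≠ j → R i j = R j i)
    (x : V) : x ⬝ᵥ R *ᵥ x = ∑ i, x i * R i i := by
  have hdec : R = Matrix.diagonal (fun i => R i i) + (upper R + (upper R)ᵀ) := by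
    ext i j
    rcases lt_trichotomy i j with h | h | h
    · simp [upper, h, h.ne, not_lt.2 h.le]
    · subst h; simp [upper]
    · simp [upper, h, h.ne', not_lt.2 h.le, hR i j h.ne']
  conv_lhs => rw [hdec]
  rw [add_mulVec, dotProduct_add, quad_symm, add_zero]
  refine Finset.sum_congr rfl fun i _ => ?_
  rw [mulVec_diagonal]
  have : ∀ a b : ZMod 2, a * (b * a) = a * b := by decide
  exact this _ _

/-- The check for a matrix. -/
def Good (M : Matrix (Fin 12) (Fin 12) (ZMod 2)) (B : Fin 12 → Fin 12 → ZMod 2) : Prop :=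
  (∀ k i j, i ≠ j → rMat M k i j = rMat M k j i) ∧ (∀ k i, rMat M k i i = B i k) ∧
    (∀ i j, B i j = B j i) ∧ ∀ i, B i i = 0

theorem exists_lift {M : Matrix (Fin 12) (Fin 12) (ZMod 2)} {B : Fin 12 → Fin 12 → ZMod 2}
    (h : Good M B) : ∃ q : V → ZMod 2, ∀ x y,
      q (x + y) + q x + q y = theta x y + theta (M *ᵥ x) (M *ᵥ y) := by
  obtain ⟨h1, h2, h3, h4⟩ := h
  refine ⟨fun x => x ⬝ᵥ upper (Matrix.of B) *ᵥ x, fun x y => ?_⟩
  set W := upper (Matrix.of B) with hW
  have hB : W + Wᵀ = Matrix.of B := by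
    ext i j
    rcases lt_trichotomy i j with h | h | h
    · simp [hW, upper, h, not_lt.2 h.le]
    · subst h; simp [hW, upper, h4]
    · simp [hW, upper, h, not_lt.2 h.le, h3 i j]
  have hl : (x + y) ⬝ᵥ W *ᵥ (x + y) + x ⬝ᵥ W *ᵥ x + y ⬝ᵥ W *ᵥ y = x ⬝ᵥ Matrix.of B *ᵥ y := by
    rw [← hB, add_mulVec, dotProduct_add, mulVec_transpose, dotProduct_comm x (y ᵥ* W),
      ← dotProduct_mulVec, mulVec_add, dotProduct_add, add_dotProduct, add_dotProduct]
    ring_nf
    have : ∀ a b c d : ZMod 2, a * 2 + b + c + d * 2 = b + c := by decide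
    exact this _ _ _ _
  rw [hl]
  have hr : theta x y + theta (M *ᵥ x) (M *ᵥ y) = ∑ k, y k * (x ⬝ᵥ rMat M k *ᵥ x) := by
    simp only [theta, rMat, add_mulVec, dotProduct_add, mul_add, Finset.sum_add_distrib,
      Matrix.sum_mulVec, dotProduct_sum, smul_mulVec, dotProduct_smul, smul_eq_mul]
    refine congrArg (_ + ·) ?_
    simp only [Finset.mul_sum]
    rw [Finset.sum_comm]
    refine Finset.sum_congr rfl fun l _ => ?_
    rw [show (M *ᵥ y) l = ∑ k, M l k * y k from rfl, Finset.sum_mul]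
    refine Finset.sum_congr rfl fun k _ => ?_
    have hq : M *ᵥ x ⬝ᵥ uMat l *ᵥ M *ᵥ x = x ⬝ᵥ (Mᵀ * uMat l * M) *ᵥ x := by
      rw [← mulVec_mulVec, ← mulVec_mulVec, dotProduct_mulVec x Mᵀ, vecMul_transpose]
    rw [hq]
    ring
  rw [hr]
  simp only [quad_diag (h1 _), h2, Finset.mul_sum]
  simp only [dotProduct, mulVec, Finset.mul_sum, Matrix.of_apply]
  rw [Finset.sum_comm]
  exact Finset.sum_congr rfl fun k _ => Finset.sum_congr rfl fun i _ => by ring

/-! ### The group -/

/-- Functions on the code, written multiplicatively. -/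
abbrev Fn : Type := Multiplicative (V → ZMod 2)

/-- `σ ↦ (q ↦ q ∘ σ⁻¹)`. -/
def fnHom : Spor.M23 →* MulAut Fn where
  toFun σ :=
    { toFun := fun q => Multiplicative.ofAdd fun x => q.toAdd (act (σ : Equiv.Perm GolayPt)⁻¹ x)
      invFun := fun q => Multiplicative.ofAdd fun x => q.toAdd (act (σ : Equiv.Perm GolayPt) x)
      left_inv := fun q => by
        refine Multiplicative.toAdd.injective (funext fun x => ?_)
        show q.toAdd (act _ (act _ x)) = q.toAdd x
        rw [← act_mul (inv_mem σ.2.1) σ.2.1, inv_mul_cancel, act_one]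
      right_inv := fun q => by
        refine Multiplicative.toAdd.injective (funext fun x => ?_)
        show q.toAdd (act _ (act _ x)) = q.toAdd x
        rw [← act_mul σ.2.1 (inv_mem σ.2.1), mul_inv_cancel, act_one]
      map_mul' := fun _ _ => rfl }
  map_one' := by
    refine MulEquiv.ext fun q => Multiplicative.toAdd.injective (funext fun x => ?_)
    show q.toAdd (act (1 : Equiv.Perm GolayPt)⁻¹ x) = q.toAdd x
    rw [inv_one, act_one]
  map_mul' σ τ := by
    refine MulEquiv.ext fun q => Multiplicative.toAdd.injective (funext fun x => ?_)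
    show q.toAdd (act ((σ : Equiv.Perm GolayPt) * τ)⁻¹ x) = q.toAdd (act _ (act _ x))
    rw [← act_mul (inv_mem τ.2.1) (inv_mem σ.2.1), _root_.mul_inv_rev]

/-- All pairs. -/
abbrev Pair : Type := Fn ⋊[fnHom] Spor.M23

/-- The function of a pair. -/
abbrev qOf (g : Pair) : V → ZMod 2 := g.left.toAdd

theorem qOf_mul (g h : Pair) (x : V) :
    qOf (g * h) x = qOf g x + qOf h (act ((g.right : Spor.M23) : Equiv.Perm GolayPt)⁻¹ x) := rfl

/-- The condition on a pair. -/
def IsLift (g : Pair) : Prop := ∀ x y, qOf g (x + y) + qOf g x + qOf g y =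
  theta x y + theta (act ((g.right : Spor.M23) : Equiv.Perm GolayPt)⁻¹ x)
    (act ((g.right : Spor.M23) : Equiv.Perm GolayPt)⁻¹ y)

/-- The extension of `M₂₃` by the dual of the code. -/
def Ext : Subgroup Pair where
  carrier := {g | IsLift g}
  one_mem' x y := by
    show (0 : ZMod 2) + 0 + 0 = theta x y + theta (act (1 : Equiv.Perm GolayPt)⁻¹ x) (act (1 : Equiv.Perm GolayPt)⁻¹ y)
    rw [inv_one, act_one, act_one, CharTwo.add_self_eq_zero (theta x y)]
    decide
  mul_mem' {g h} hg hh x y := by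
    have e : ∀ z, act (((g * h).right : Spor.M23) : Equiv.Perm GolayPt)⁻¹ z =
        act ((h.right : Spor.M23) : Equiv.Perm GolayPt)⁻¹
          (act ((g.right : Spor.M23) : Equiv.Perm GolayPt)⁻¹ z) := fun z => by
      rw [← act_mul (inv_mem h.right.2.1) (inv_mem g.right.2.1), SemidirectProduct.mul_right,
        Subgroup.coe_mul, _root_.mul_inv_rev]
    rw [qOf_mul, qOf_mul, qOf_mul, map_add, e, e]
    have h1 := hg x y
    have h2 := hh (act ((g.right : Spor.M23) : Equiv.Perm GolayPt)⁻¹ x)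
      (act ((g.right : Spor.M23) : Equiv.Perm GolayPt)⁻¹ y)
    generalize theta x y = t0 at h1 ⊢
    generalize theta (act ((h.right : Spor.M23) : Equiv.Perm GolayPt)⁻¹
      (act ((g.right : Spor.M23) : Equiv.Perm GolayPt)⁻¹ x)) _ = t2 at h2 ⊢
    generalize theta (act ((g.right : Spor.M23) : Equiv.Perm GolayPt)⁻¹ x)
      (act ((g.right : Spor.M23) : Equiv.Perm GolayPt)⁻¹ y) = t1 at h1 h2
    grind
  inv_mem' {g} hg x y := by
    set σ : Equiv.Perm GolayPt := ((g.right : Spor.M23) : Equiv.Perm GolayPt) with hσ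
    have hm : σ ∈ M24 := g.right.2.1
    have e : ∀ z, qOf g⁻¹ z = qOf g (act σ z) := fun z => by
      show -qOf g (act ((g.right⁻¹ : Spor.M23) : Equiv.Perm GolayPt)⁻¹ z) = _
      rw [Subgroup.coe_inv, inv_inv, ZMod.neg_eq_self_mod_two]
    show _ = theta x y + theta (act ((g.right⁻¹ : Spor.M23) : Equiv.Perm GolayPt)⁻¹ x)
      (act ((g.right⁻¹ : Spor.M23) : Equiv.Perm GolayPt)⁻¹ y)
    rw [Subgroup.coe_inv, inv_inv, e, e, e, ← hσ, map_add, hg, ← hσ]
    simp only [← act_mul (inv_mem hm) hm, inv_mul_cancel, act_one]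
    exact add_comm _ _

theorem mem_ext {g : Pair} : g ∈ Ext ↔ IsLift g := Iff.rfl

end Cfsg.Agent.Parker
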